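import Groth.Agent.Lib.SmoothLocal6.Cover

/-!
Gluing infinitesimal lifts on an affine scheme: algebra.
-/

universe u

set_option maxSynthPendingDepth 3

open TensorProduct

namespace GrothLib.SmoothLocal6

variable {A : Type u} [CommRing A] {I : Ideal A} {C : Type u} [CommRing C] [Algebra A C]

/-- The lifting property of `C → A ⧸ I` over the open where `g` is invertible. -/
def Lifts (φ : C →ₐ[A] A ⧸ I) (g : A) : Prop :=
  ∀ (T T'' : Type u) [CommRing T] [CommRing T''] [Algebra A T] [Algebra A T''],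
    IsUnit (algebraMap A T g) → ∀ (π : T →ₐ[A] T''), Function.Surjective π → ∀ (J : Ideal T),
      J * J = ⊥ → RingHom.ker π ≤ J → ∀ β : C →ₐ[A] T'',
        (∀ n, φ n = 0 → β n ∈ J.map π) → ∃ α : C →ₐ[A] T, π.comp α = β

theorem sub_algebraMap_mem {φ : C →ₐ[A] A ⧸ I} {c : C} {a : A} (h : φ c = Ideal.Quotient.mk I a) :
    φ (c - algebraMap A C a) = 0 := by
  rw [map_sub, h, AlgHom.commutes]
  exact sub_self _

/-- The product rule modulo constants. -/
theorem mkQ_mul (φ : C →ₐ[A] A ⧸ I) (hN : ∀ x y, φ x = 0 → φ y = 0 → x * y = 0) {c c' : C} {a a' : A}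
    (h : φ c = Ideal.Quotient.mk I a) (h' : φ c' = Ideal.Quotient.mk I a') :
    (LinearMap.range (Algebra.linearMap A C)).mkQ (c * c') =
      a • (LinearMap.range (Algebra.linearMap A C)).mkQ c' +
        a' • (LinearMap.range (Algebra.linearMap A C)).mkQ c := by
  rw [← map_smul, ← map_smul, ← map_add, Submodule.mkQ_apply, Submodule.mkQ_apply,
    Submodule.Quotient.eq]
  refine ⟨-(a * a'), ?_⟩
  have h0 := hN _ _ (sub_algebraMap_mem h) (sub_algebraMap_mem h')
  rw [Algebra.linearMap_apply, map_neg, map_mul, Algebra.smul_def, Algebra.smul_def]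
  linear_combination (norm := ring) -h0

theorem projective_component (φ : C →ₐ[A] A ⧸ I)
    (hN : ∀ x y, φ x = 0 → φ y = 0 → x * y = 0) (g : A) (hg : Lifts φ g) (S : Type u) [CommRing S]
    [Algebra A S] [Algebra (A ⧸ I) S] [IsScalarTower A (A ⧸ I) S] (hu : IsUnit (algebraMap A S g)) :
    Module.Projective S (S ⊗[A] (C ⧸ LinearMap.range (Algebra.linearMap A C))) := by
  let P := C ⧸ LinearMap.range (Algebra.linearMap A C)
  refine Module.Projective.of_lifting_property fun {M M''} _ _ _ _ h f hh => ?_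
  letI : Module Sᵐᵒᵖ M := Module.compHom _ ((RingHom.id S).fromOpposite mul_comm)
  haveI : IsCentralScalar S M := ⟨fun r m => rfl⟩
  letI : Module Sᵐᵒᵖ M'' := Module.compHom _ ((RingHom.id S).fromOpposite mul_comm)
  haveI : IsCentralScalar S M'' := ⟨fun r m => rfl⟩
  letI : Module A M := Module.compHom _ (algebraMap A S)
  haveI : IsScalarTower A S M := ⟨fun r s m => by
    change (r • s) • m = algebraMap A S r • (s • m); rw [Algebra.smul_def, mul_smul]⟩
  letI : Module A M'' := Module.compHom _ (algebraMap A S)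
  haveI : IsScalarTower A S M'' := ⟨fun r s m => by
    change (r • s) • m = algebraMap A S r • (s • m); rw [Algebra.smul_def, mul_smul]⟩
  let q : C →ₗ[A] P := (LinearMap.range (Algebra.linearMap A C)).mkQ
  let f' : C →ₗ[A] M'' := (f.restrictScalars A) ∘ₗ TensorProduct.mk A S P 1 ∘ₗ q
  let σ : C →ₐ[A] S := (IsScalarTower.toAlgHom A (A ⧸ I) S).comp φ
  have hσ : ∀ c a, φ c = Ideal.Quotient.mk I a → σ c = algebraMap A S a := fun c a hc => by
    change algebraMap (A ⧸ I) S (φ c) = _
    rw [hc, IsScalarTower.algebraMap_apply A (A ⧸ I) S]; rfl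
  have hf1 : ∀ a, f' (algebraMap A C a) = 0 := fun a => by
    have : q (algebraMap A C a) = 0 := (Submodule.Quotient.mk_eq_zero _).mpr ⟨a, rfl⟩
    simp [f', this]
  let β : C →ₐ[A] TrivSqZeroExt S M'' :=
    { toFun := fun c => TrivSqZeroExt.inl (σ c) + TrivSqZeroExt.inr (f' c)
      map_one' := by
        rw [map_one, ← map_one (algebraMap A C), hf1, TrivSqZeroExt.inr_zero, add_zero]; rfl
      map_mul' := fun c c' => by
        obtain ⟨a, ha⟩ := Ideal.Quotient.mk_surjective (φ c)
        obtain ⟨a', ha'⟩ := Ideal.Quotient.mk_surjective (φ c')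
        have : f' (c * c') = σ c • f' c' + σ c' • f' c := by
          rw [hσ c a ha.symm, hσ c' a' ha'.symm, IsScalarTower.algebraMap_smul,
            IsScalarTower.algebraMap_smul, ← map_smul, ← map_smul, ← map_add]
          change f (1 ⊗ₜ q (c * c')) = f (1 ⊗ₜ q (a • c' + a' • c))
          congr 2
          rw [map_add, map_smul, map_smul]
          exact mkQ_mul φ hN ha.symm ha'.symm
        refine TrivSqZeroExt.ext ?_ ?_
        · simp
        · simp [this]
      map_zero' := by simp
      map_add' := fun c c' => by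
        refine TrivSqZeroExt.ext ?_ ?_ <;> simp
      commutes' := fun a => by
        rw [hf1, TrivSqZeroExt.inr_zero, add_zero]
        rw [TrivSqZeroExt.algebraMap_eq_inl']
        exact congrArg _ (σ.commutes a) }
  let π : TrivSqZeroExt S M →ₐ[A] TrivSqZeroExt S M'' := (TrivSqZeroExt.map h).restrictScalars A
  have hπ : Function.Surjective π := fun x => by
    obtain ⟨m, hm⟩ := hh x.snd
    exact ⟨TrivSqZeroExt.inl x.fst + TrivSqZeroExt.inr m, TrivSqZeroExt.ext (by simp [π]) (by simp [π, hm])⟩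
  let J : Ideal (TrivSqZeroExt S M) := RingHom.ker (TrivSqZeroExt.fstHom S S M)
  have hJ : J * J = ⊥ := by
    rw [eq_bot_iff, Ideal.mul_le]
    intro x hx y hy
    have hx' : x.fst = 0 := hx
    have hy' : y.fst = 0 := hy
    rw [Ideal.mem_bot]
    exact TrivSqZeroExt.ext (by simp [hx']) (by simp [hx', hy'])
  obtain ⟨α, hα⟩ := hg (TrivSqZeroExt S M) (TrivSqZeroExt S M'')
    (by rw [IsScalarTower.algebraMap_apply A S (TrivSqZeroExt S M)]; exact hu.map _) π hπ J hJ
    (fun x hx => by
      have : (π x).fst = 0 := by rw [RingHom.mem_ker.mp hx]; rfl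
      simpa [π, J] using this) β (fun n hn => by
      obtain ⟨m, hm⟩ := hh (f' n)
      refine Ideal.mem_map_of_mem π (show TrivSqZeroExt.inr m ∈ J from TrivSqZeroExt.fst_inr _ m) |>
        fun h0 => ?_
      convert h0 using 1
      have : σ n = 0 := by
        change algebraMap (A ⧸ I) S (φ n) = 0
        rw [hn, map_zero]
      refine TrivSqZeroExt.ext ?_ ?_
      · change (TrivSqZeroExt.inl (σ n) + TrivSqZeroExt.inr (f' n)).fst = _
        simp [π, this]
      · change (TrivSqZeroExt.inl (σ n) + TrivSqZeroExt.inr (f' n)).snd = _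
        simp [π, hm])
  let D : C →ₗ[A] M := (TrivSqZeroExt.sndHom S M).restrictScalars A ∘ₗ α.toLinearMap
  let D' : P →ₗ[A] M := (LinearMap.range (Algebra.linearMap A C)).liftQ D (by
    rintro _ ⟨a, rfl⟩
    change (α (algebraMap A C a)).snd = 0
    rw [AlgHom.commutes, TrivSqZeroExt.algebraMap_eq_inl', TrivSqZeroExt.snd_inl])
  refine ⟨D'.liftBaseChange S, TensorProduct.AlgebraTensorModule.ext fun s x => ?_⟩
  obtain ⟨c, rfl⟩ := Submodule.Quotient.mk_surjective _ x
  rw [LinearMap.comp_apply, LinearMap.liftBaseChange_tmul, map_smul]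
  have h1 : h (D' (Submodule.Quotient.mk c)) = f' c := by
    have := congrArg TrivSqZeroExt.snd (congr($hα c))
    change h (α c).snd = f' c
    simpa [π, β] using this
  rw [h1]
  change s • f (1 ⊗ₜ q c) = f (s ⊗ₜ q c)
  rw [← map_smul, smul_tmul', smul_eq_mul, mul_one]

/-- The module `C / A` over `A ⧸ I`. -/
theorem projective_cotangent (φ : C →ₐ[A] A ⧸ I) (hN : ∀ x y, φ x = 0 → φ y = 0 → x * y = 0)
    {ι : Type u} [Fintype ι] (g : ι → A) (hg : ∀ i, Lifts φ (g i))
    (hspan : Ideal.span (Set.range g) = ⊤) :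
    Module.Projective (A ⧸ I)
      ((A ⧸ I) ⊗[A] (C ⧸ LinearMap.range (Algebra.linearMap A C))) := by
  refine projective_of_away _ (fun i => Ideal.Quotient.mk I (g i)) ?_ fun i => ?_
  · rw [Set.range_comp', ← Ideal.map_span, hspan, Ideal.map_top]
  have := projective_component φ hN (g i) (hg i) (Localization.Away (Ideal.Quotient.mk I (g i)))
    (by rw [IsScalarTower.algebraMap_apply A (A ⧸ I)]; exact IsLocalization.Away.algebraMap_isUnit _)
  exact Module.Projective.of_equiv (TensorProduct.AlgebraTensorModule.cancelBaseChange A (A ⧸ I)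
    (Localization.Away (Ideal.Quotient.mk I (g i))) _ _).symm

/-- Local lifts on a cover give a global one. -/
theorem exists_retraction (hI : I * I = ⊥) (φ : C →ₐ[A] A ⧸ I)
    (hN : ∀ x y, φ x = 0 → φ y = 0 → x * y = 0)
    {ι : Type u} [Fintype ι] (g : ι → A) (hg : ∀ i, Lifts φ (g i))
    (hspan : Ideal.span (Set.range g) = ⊤) :
    ∃ s : C →ₐ[A] A, (Ideal.Quotient.mkₐ A I).comp s = φ := by
  classical
  let Ā := A ⧸ I
  let P := C ⧸ LinearMap.range (Algebra.linearMap A C)
  have := projective_cotangent φ hN g hg hspan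
  let N : Submodule A C := LinearMap.ker φ.toLinearMap
  let r : N →ₗ[A] P := (LinearMap.range (Algebra.linearMap A C)).mkQ ∘ₗ N.subtype
  have hr : Function.Surjective r := fun x => by
    obtain ⟨c, rfl⟩ := Submodule.Quotient.mk_surjective _ x
    obtain ⟨a, ha⟩ := Ideal.Quotient.mk_surjective (φ c)
    refine ⟨⟨c - algebraMap A C a, sub_algebraMap_mem ha.symm⟩, ?_⟩
    exact (Submodule.Quotient.eq _).mpr ⟨-a, by simp⟩
  -- `N` and `P` are killed by `I`
  have hIC : ∀ i ∈ I, ∀ n : N, i • n = 0 := fun i hi n => Subtype.ext <| by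
    rw [Submodule.coe_smul, Algebra.smul_def]
    refine hN _ _ ?_ n.2
    rw [AlgHom.commutes]
    exact Ideal.Quotient.eq_zero_iff_mem.mpr hi
  obtain ⟨σ, hσ⟩ := Module.projective_lifting_property (r.baseChange Ā) LinearMap.id
    (LinearMap.lTensor_surjective Ā hr)
  let L : Ā →ₗ[A] ↥N →ₗ[A] ↥N := I.liftQ (LinearMap.lsmul A N) (fun i hi => by
    rw [LinearMap.mem_ker]
    exact LinearMap.ext fun n => hIC i hi n)
  let e : Ā ⊗[A] N →ₗ[A] N := TensorProduct.lift L
  have he : ∀ z, r.baseChange Ā z = (1 : Ā) ⊗ₜ r (e z) := fun z => by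
    induction z with
    | zero => simp
    | add a b ha hb => simp only [map_add, tmul_add, ha, hb]
    | tmul x n =>
      obtain ⟨a, rfl⟩ := Ideal.Quotient.mk_surjective x
      have : e (Ideal.Quotient.mk I a ⊗ₜ n) = a • n := rfl
      rw [LinearMap.baseChange_tmul, this, map_smul, ← smul_tmul, Algebra.smul_def, mul_one]
      rfl
  have hP : ∀ i ∈ I, ∀ x : P, i • x = 0 := fun i hi x => by
    obtain ⟨n, rfl⟩ := hr x
    rw [← map_smul, hIC i hi, map_zero]
  let L' : Ā →ₗ[A] P →ₗ[A] P := I.liftQ (LinearMap.lsmul A P) (fun i hi => by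
    rw [LinearMap.mem_ker]
    exact LinearMap.ext fun n => hP i hi n)
  let τ : P →ₗ[A] N := e ∘ₗ (σ.restrictScalars A) ∘ₗ TensorProduct.mk A Ā P 1
  have hτ : ∀ x, r (τ x) = x := fun x => by
    have h1 : r.baseChange Ā (σ (1 ⊗ₜ x)) = (1 : Ā) ⊗ₜ x := LinearMap.congr_fun hσ _
    rw [he] at h1
    have h2 := congrArg (TensorProduct.lift L') h1
    have h3 : ∀ y : P, TensorProduct.lift L' ((1 : Ā) ⊗ₜ y) = y := fun y => one_smul A y
    rwa [h3, h3] at h2
  -- injectivity of `I → C`
  have hinj : ∀ a : A, algebraMap A C a = 0 → a = 0 := by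
    intro a ha
    have haI : a ∈ I := by
      have h' := congrArg φ ha
      rw [AlgHom.commutes, map_zero] at h'
      exact Ideal.Quotient.eq_zero_iff_mem.mp h'
    let K : Ideal A := LinearMap.ker (LinearMap.toSpanSingleton A A a)
    suffices K = ⊤ by
      have h' : (1 : A) • a = 0 := (show (1 : A) ∈ K from this ▸ Submodule.mem_top)
      simpa using h'
    by_contra hK
    obtain ⟨m, hm, hKm⟩ := Ideal.exists_le_maximal _ hK
    obtain ⟨i, hi⟩ : ∃ i, g i ∉ m := by
      by_contra h
      push Not at h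
      exact hm.ne_top (top_le_iff.mp (hspan ▸ Ideal.span_le.mpr (by rintro _ ⟨i, rfl⟩; exact h i)))
    let T := Localization.Away (g i)
    let J := I.map (algebraMap A T)
    let β : C →ₐ[A] T ⧸ J :=
      (Ideal.Quotient.liftₐ I ((Ideal.Quotient.mkₐ A J).comp (Algebra.ofId A T)) fun x hx =>
        Ideal.Quotient.eq_zero_iff_mem.mpr (Ideal.mem_map_of_mem _ hx)).comp φ
    obtain ⟨α, -⟩ := hg i T (T ⧸ J) (IsLocalization.Away.algebraMap_isUnit _) (Ideal.Quotient.mkₐ A J)
      Ideal.Quotient.mk_surjective J (by rw [← Ideal.map_mul, hI, Ideal.map_bot])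
      (fun x hx => Ideal.Quotient.eq_zero_iff_mem.mp hx) β
      (fun n hn => by
        have : β n = 0 := by simp [β, hn]
        rw [this]; exact zero_mem _)
    have h' := congrArg α ha
    rw [AlgHom.commutes, map_zero] at h'
    obtain ⟨⟨_, k, rfl⟩, hk⟩ := (IsLocalization.map_eq_zero_iff (Submonoid.powers (g i)) T a).mp h'
    refine hi (hm.isPrime.mem_of_pow_mem k (hKm ?_))
    exact hk
  -- the retraction
  have key : ∀ n : N, ∃ a : A, algebraMap A C a = (n - τ (r n) : ↥N).1 ∧ a ∈ I := by
    intro n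
    have : r (n - τ (r n)) = 0 := by rw [map_sub, hτ, sub_self]
    obtain ⟨a, ha⟩ := (Submodule.Quotient.mk_eq_zero _).mp this
    refine ⟨a, ha, Ideal.Quotient.eq_zero_iff_mem.mp ?_⟩
    have h' := congrArg φ ha
    rw [Algebra.linearMap_apply, AlgHom.commutes] at h'
    exact h'.trans (n - τ (r n)).2
  choose d hd hdI using key
  have dext : ∀ {n : N} {a : A}, algebraMap A C a = (n - τ (r n) : ↥N).1 → d n = a := fun {n a} h => by
    rw [← sub_eq_zero]; apply hinj; rw [map_sub, hd, h, sub_self]
  choose a ha using fun c : C => Ideal.Quotient.mk_surjective (φ c)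
  let s : C → A := fun c => a c + d ⟨c - algebraMap A C (a c), sub_algebraMap_mem (ha c).symm⟩
  have hdadd : ∀ n n', d (n + n') = d n + d n' := fun n n' => dext (by
    rw [map_add, hd, hd, map_add, map_add, add_sub_add_comm]; rfl)
  have hdI' : ∀ b (hb : b ∈ I), d ⟨algebraMap A C b, by
      change φ _ = 0; rw [AlgHom.commutes]; exact Ideal.Quotient.eq_zero_iff_mem.mpr hb⟩ = b := by
    intro b hb
    refine dext ?_
    have : r ⟨algebraMap A C b, by
        change φ _ = 0; rw [AlgHom.commutes]; exact Ideal.Quotient.eq_zero_iff_mem.mpr hb⟩ = 0 :=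
      (Submodule.Quotient.mk_eq_zero _).mpr ⟨b, rfl⟩
    rw [this, map_zero, sub_zero]
  have hs : ∀ (c : C) (b : A) (n : N), c = algebraMap A C b + n.1 → s c = b + d n := by
    intro c b n hc
    have hb : a c - b ∈ I := by
      rw [← Ideal.Quotient.mk_eq_mk_iff_sub_mem, ha, hc, map_add, AlgHom.commutes,
        show φ n.1 = 0 from n.2, add_zero]
      rfl
    have h1 : n = ⟨c - algebraMap A C (a c), sub_algebraMap_mem (ha c).symm⟩ +
        ⟨algebraMap A C (a c - b), by
          change φ _ = 0; rw [AlgHom.commutes]; exact Ideal.Quotient.eq_zero_iff_mem.mpr hb⟩ :=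
      Subtype.ext (by
        change n.1 = (c - algebraMap A C (a c)) + algebraMap A C (a c - b)
        rw [map_sub]; linear_combination (norm := ring) -hc)
    rw [h1, hdadd, hdI' _ hb]
    simp only [s]
    ring
  have hsmul : ∀ (b : A) n, d (b • n) = b * d n := fun b n => dext (by
    rw [map_mul, hd, map_smul, map_smul, ← Algebra.smul_def, ← Submodule.coe_smul, smul_sub])
  have hdec : ∀ c, c = algebraMap A C (a c) + (c - algebraMap A C (a c)) := fun c => by ring
  have hscomm : ∀ b, s (algebraMap A C b) = b := fun b => by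
    rw [hs _ b 0 (by rw [ZeroMemClass.coe_zero, add_zero]), dext (n := 0) (a := 0) (by simp), add_zero]
  refine ⟨{ toFun := s
            map_one' := by simpa using hscomm 1
            map_zero' := by simpa using hscomm 0
            map_add' := fun c c' => ?_
            map_mul' := fun c c' => ?_
            commutes' := hscomm }, AlgHom.ext fun c => ?_⟩
  · have h0 := hN _ _ (sub_algebraMap_mem (ha c).symm) (sub_algebraMap_mem (ha c').symm)
    rw [hs (c * c') (a c * a c') (a c • ⟨_, sub_algebraMap_mem (ha c').symm⟩ +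
      a c' • ⟨_, sub_algebraMap_mem (ha c).symm⟩) (by
        rw [Submodule.coe_add, Submodule.coe_smul, Submodule.coe_smul, Algebra.smul_def,
          Algebra.smul_def, map_mul]
        linear_combination (norm := ring) h0), hdadd, hsmul, hsmul]
    simp only [s]
    have hII : ∀ x ∈ I, ∀ y ∈ I, x * y = 0 := fun x hx y hy => by
      have := Ideal.mul_mem_mul hx hy
      rwa [hI, Ideal.mem_bot] at this
    linear_combination (norm := ring) -hII _ (hdI ⟨_, sub_algebraMap_mem (ha c).symm⟩) _
      (hdI ⟨_, sub_algebraMap_mem (ha c').symm⟩)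
  · rw [hs (c + c') (a c + a c') (⟨_, sub_algebraMap_mem (ha c).symm⟩ + ⟨_, sub_algebraMap_mem (ha c').symm⟩)
      (by rw [Submodule.coe_add, map_add]; ring), hdadd]
    simp only [s]
    ring
  · change Ideal.Quotient.mk I (s c) = φ c
    rw [map_add, Ideal.Quotient.eq_zero_iff_mem.mpr (hdI _), add_zero]
    exact ha c

end GrothLib.SmoothLocal6
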