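import Groth.Prelude.Def_MoreMor
import Groth.Agent.Lib.FormalLift.Basic
import Groth.Agent.Lib.Thickening.Affine
import Groth.Agent.Lib.UnivThick.Affine
import Groth.Agent.Lib.UnivThick.FOT
import Groth.Agent.Lib.SmoothLocal6.Retraction

/-!
Formal smoothness (lifting against affine first order thickenings) is local.
-/

universe u

open AlgebraicGeometry CategoryTheory Limits

namespace GrothLib.SmoothLocal6

variable {X Y : Scheme.{u}}

/-- Lifting along a surjection of rings with square zero kernel. -/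
theorem exists_lift_spec (f : X ⟶ Y) (hf : MoreMor.IsFormallySmoothHom f) {T T'' : CommRingCat.{u}}
    (π : T ⟶ T'') (hπ : Function.Surjective π.hom) (hk : RingHom.ker π.hom ^ 2 = ⊥)
    (a : Spec T'' ⟶ X) (b : Spec T ⟶ Y) (w : Spec.map π ≫ b = a ≫ f) :
    ∃ l : Spec T ⟶ X, Spec.map π ≫ l = a ∧ l ≫ f = b := by
  let e := RingHom.quotientKerEquivOfSurjective hπ
  let eC : CommRingCat.of (T ⧸ RingHom.ker π.hom) ≅ T'' := e.toCommRingCatIso
  have hfac : CommRingCat.ofHom (Ideal.Quotient.mk (RingHom.ker π.hom)) ≫ eC.hom = π := by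
    ext x; exact RingHom.quotientKerEquivOfSurjective_apply_mk hπ x
  obtain ⟨l, hl, hlf⟩ := hf T (RingHom.ker π.hom) hk (Spec.map eC.inv ≫ a) b (by
    rw [Category.assoc, ← w, ← Spec.map_comp_assoc,
      show π ≫ eC.inv = CommRingCat.ofHom (Ideal.Quotient.mk _) from
        (Iso.comp_inv_eq _).mpr hfac.symm])
  refine ⟨l, ?_, hlf⟩
  rw [← hfac, Spec.map_comp, Category.assoc]
  erw [hl]
  rw [← Spec.map_comp_assoc, Iso.inv_hom_id, Spec.map_id, Category.id_comp]

/-- A formally smooth ring map has the lifting property. -/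
theorem isFormallySmoothHom_specMap {R B : CommRingCat.{u}} (φ : R ⟶ B) (h : φ.hom.FormallySmooth) :
    MoreMor.IsFormallySmoothHom (Spec.map φ) := by
  algebraize [φ.hom]
  intro A _ I hI a b w
  obtain ⟨α, rfl⟩ := Spec.map_surjective a
  obtain ⟨β, rfl⟩ := Spec.map_surjective b
  rw [← Spec.map_comp, ← Spec.map_comp] at w
  replace w := Spec.map_injective w
  letI : Algebra R A := β.hom.toAlgebra
  let g : B →ₐ[R] A ⧸ I := ⟨α.hom, fun r => (congr($(w).hom r)).symm⟩
  obtain ⟨ψ, hψ⟩ := (Algebra.FormallySmooth.iff_comp_surjective (R := R) (A := B)).mp inferInstance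
    (B := A) I hI g
  refine ⟨Spec.map (CommRingCat.ofHom ψ.toRingHom), ?_, ?_⟩
  · rw [← Spec.map_comp]; congr 1; ext x; exact congr($hψ x)
  · rw [← Spec.map_comp]; congr 1; ext r; exact ψ.commutes r

theorem pow_two_le_self (K : X.IdealSheafData) : K ^ 2 ≤ K := fun U => by
  rw [Scheme.IdealSheafData.ideal_pow, Pi.pow_apply]
  exact Ideal.pow_le_self two_ne_zero

theorem exists_hom_factor {C B D : CommRingCat.{u}} (φ : C ⟶ B) (hφ : Function.Surjective φ.hom)
    (h : C ⟶ D) (hker : ∀ x, φ.hom x = 0 → h.hom x = 0) : ∃ θ : B ⟶ D, φ ≫ θ = h := by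
  refine ⟨CommRingCat.ofHom (RingHom.liftOfRightInverse φ.hom _ (Function.rightInverse_surjInv hφ)
    ⟨h.hom, fun x hx => hker x hx⟩), CommRingCat.hom_ext (RingHom.ext fun x => ?_)⟩
  exact RingHom.liftOfRightInverse_comp_apply φ.hom _ (Function.rightInverse_surjInv hφ) _ x

theorem surjective_specMap_of_nilpotent {T T'' : CommRingCat.{u}} (π : T ⟶ T'')
    (hπ : Function.Surjective π.hom) (J : Ideal T) (hJ : J * J = ⊥)
    (hk : RingHom.ker π.hom ≤ J) : Surjective (Spec.map π) := by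
  refine ⟨fun x => ?_⟩
  have : x ∈ Set.range (PrimeSpectrum.comap π.hom) := by
    rw [range_comap_of_surjective _ _ hπ]
    intro y hy
    refine x.isPrime.mem_of_pow_mem 2 ?_
    have := Ideal.mul_mem_mul (hk hy) (hk hy)
    rw [hJ, Ideal.mem_bot] at this
    rw [pow_two, this]; exact zero_mem _
  exact this

/-- A morphism restricting, modulo a square zero ideal, into a closed subscheme lies in its first
order neighbourhood. -/
theorem mul_ker_le_ker {Q Q₁ W S : Scheme.{u}} (σ' : S ⟶ W) (t : Q₁ ⟶ Q)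
    (hsq : t.ker * t.ker = ⊥) (m' : Q ⟶ W) (ρ : Q₁ ⟶ S) (h : t ≫ m' = ρ ≫ σ') :
    σ'.ker * σ'.ker ≤ m'.ker := by
  have hK : σ'.ker.comap m' ≤ t.ker := by
    rw [← Scheme.IdealSheafData.le_map_iff_comap_le,
      show t.ker.map m' = (t ≫ m').ker from (Scheme.Hom.ker_comp _ _).symm, h]
    exact Scheme.Hom.le_ker_comp _ _
  rw [← Scheme.IdealSheafData.map_bot m', Scheme.IdealSheafData.le_map_iff_comap_le,
    GrothLib.UnivThick.comap_mul, ← hsq]
  intro U
  rw [Scheme.IdealSheafData.ideal_mul, Scheme.IdealSheafData.ideal_mul, Pi.mul_apply, Pi.mul_apply]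
  exact Ideal.mul_mono (hK U) (hK U)

theorem exists_lift_thickening {P W Zs : Scheme.{u}} {Cz B : CommRingCat.{u}} (e : Zs ≅ Spec Cz)
    (ιZ : Zs ⟶ W) [IsClosedImmersion ιZ] (ω : W ⟶ P) [IsOpenImmersion ω] (σ' : Spec B ⟶ W)
    (φ₀ : Cz ⟶ B) (hφ₀ : Function.Surjective φ₀.hom)
    (hfac : Spec.map φ₀ ≫ e.inv ≫ ιZ = σ') (hker : ιZ.ker = σ'.ker * σ'.ker)
    {T T'' : CommRingCat.{u}} (π : T ⟶ T'') (hπ : Function.Surjective π.hom) (J : Ideal T)
    (hJ : J * J = ⊥) (hk : RingHom.ker π.hom ≤ J) (β : Cz ⟶ T'')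
    (hβ : ∀ n, φ₀.hom n = 0 → β.hom n ∈ J.map π.hom) (m : Spec T ⟶ P)
    (hm : Spec.map π ≫ m = Spec.map β ≫ e.inv ≫ ιZ ≫ ω) :
    ∃ α : Cz ⟶ T, α ≫ π = β ∧ Spec.map α ≫ e.inv ≫ ιZ ≫ ω = m ∧
      RingHom.ker φ₀.hom * RingHom.ker φ₀.hom ≤ RingHom.ker α.hom := by
  have := surjective_specMap_of_nilpotent π hπ J hJ hk
  have hr : Set.range m ⊆ Set.range ω := by
    refine GrothLib.FormalLift.range_subset_of_surjective _ hm ?_
    rintro _ ⟨x, rfl⟩
    exact ⟨ιZ (e.inv (Spec.map β x)), rfl⟩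
  let m' := IsOpenImmersion.lift ω m hr
  have hm' : m' ≫ ω = m := IsOpenImmersion.lift_fac _ _ _
  have hπm : Spec.map π ≫ m' = Spec.map β ≫ e.inv ≫ ιZ := by
    rw [← cancel_mono ω]
    simp only [Category.assoc, hm', hm]
  obtain ⟨ρ, hρ⟩ := exists_hom_factor π hπ (CommRingCat.ofHom (Ideal.Quotient.mk J))
    fun x hx => Ideal.Quotient.eq_zero_iff_mem.mpr (hk hx)
  obtain ⟨θ, hθ⟩ := exists_hom_factor φ₀ hφ₀ (β ≫ ρ) fun x hx => by
    obtain ⟨y, hy, hy'⟩ := (Ideal.mem_map_iff_of_surjective π.hom hπ).mp (hβ x hx)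
    change ρ.hom (β.hom x) = 0
    rw [← hy', ← RingHom.comp_apply, ← CommRingCat.hom_comp, hρ]
    exact Ideal.Quotient.eq_zero_iff_mem.mpr hy
  have htJ : Spec.map (CommRingCat.ofHom (Ideal.Quotient.mk J)) ≫ m' = Spec.map θ ≫ σ' := by
    rw [← hρ, Spec.map_comp, Category.assoc, hπm, ← Spec.map_comp_assoc, ← hθ, Spec.map_comp_assoc,
      hfac]
  have hle : ιZ.ker ≤ m'.ker := hker ▸ mul_ker_le_ker σ' _
    (GrothLib.UnivThick.fot_spec _ Ideal.Quotient.mk_surjective
      (by rw [CommRingCat.hom_ofHom, Ideal.mk_ker, pow_two, hJ])).2 m' _ htJ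
  obtain ⟨α, hα⟩ := Spec.map_surjective (IsClosedImmersion.lift ιZ m' hle ≫ e.hom)
  have hαπ : α ≫ π = β := Spec.map_injective (by
    rw [Spec.map_comp, hα, ← cancel_mono e.inv, ← cancel_mono ιZ]
    simp only [Category.assoc, Iso.hom_inv_id_assoc]
    rw [IsClosedImmersion.lift_fac ιZ m' hle, hπm])
  refine ⟨α, hαπ, ?_, ?_⟩
  · rw [hα, Category.assoc, Iso.hom_inv_id_assoc, IsClosedImmersion.lift_fac_assoc ιZ m' hle, hm']
  have h1 : ∀ n, φ₀.hom n = 0 → α.hom n ∈ J := fun n hn => by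
    have h2 : π.hom (α.hom n) ∈ J.map π.hom := by
      rw [← RingHom.comp_apply, ← CommRingCat.hom_comp, hαπ]
      exact hβ n hn
    obtain ⟨y, hy, hy'⟩ := (Ideal.mem_map_iff_of_surjective π.hom hπ).mp h2
    have : α.hom n - y ∈ J := hk (by rw [RingHom.mem_ker, map_sub, hy', sub_self])
    simpa using add_mem this hy
  refine Ideal.mul_le.mpr fun x hx y hy => ?_
  have := Ideal.mul_mem_mul (h1 x hx) (h1 y hy)
  rw [hJ, Ideal.mem_bot] at this
  rw [RingHom.mem_ker, map_mul, this]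

/-- The core of the construction: an affine thickening containing all infinitesimal deformations of
a section. -/
theorem exists_algebra {A : Type u} [CommRing A] (I : Ideal A) {P : Scheme.{u}}
    (q : P ⟶ Spec (CommRingCat.of A)) (σ : Spec (CommRingCat.of (A ⧸ I)) ⟶ P)
    (hσ : σ ≫ q = Spec.map (CommRingCat.ofHom (Ideal.Quotient.mk I))) :
    ∃ (C : Type u) (_ : CommRing C) (_ : Algebra A C) (φ : C →ₐ[A] A ⧸ I)
      (ι : Spec (CommRingCat.of C) ⟶ P), Function.Surjective φ ∧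
      (∀ x y, φ x = 0 → φ y = 0 → x * y = 0) ∧
      Spec.map (CommRingCat.ofHom φ.toRingHom) ≫ ι = σ ∧
      ι ≫ q = Spec.map (CommRingCat.ofHom (algebraMap A C)) ∧
      Surjective (Spec.map (CommRingCat.ofHom φ.toRingHom)) ∧
      ∀ (T T'' : CommRingCat.{u}) (π : T ⟶ T'') (_ : Function.Surjective π.hom) (J : Ideal T)
        (_ : J * J = ⊥) (_ : RingHom.ker π.hom ≤ J) (β : CommRingCat.of C ⟶ T'')
        (_ : ∀ n, φ n = 0 → β.hom n ∈ J.map π.hom) (m : Spec T ⟶ P)
        (_ : Spec.map π ≫ m = Spec.map β ≫ ι),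
        ∃ α : CommRingCat.of C ⟶ T, α ≫ π = β ∧ Spec.map α ≫ ι = m := by
  have hc : IsClosedImmersion (σ ≫ q) := by
    rw [hσ]; exact IsClosedImmersion.spec_of_surjective _ Ideal.Quotient.mk_surjective
  have : IsImmersion (σ ≫ q) := inferInstance
  have : IsImmersion σ := IsImmersion.of_comp σ q
  let σ' := σ.liftCoborder
  let W := σ.coborderRange
  let K := σ'.ker
  let ιZ := (K ^ 2).subschemeι
  have hle : ιZ.ker ≤ σ'.ker := by
    rw [Scheme.IdealSheafData.ker_subschemeι]; exact pow_two_le_self _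
  let j := IsClosedImmersion.lift ιZ σ' hle
  have hj : j ≫ ιZ = σ' := IsClosedImmersion.lift_fac _ _ _
  have hjc : IsClosedImmersion (j ≫ ιZ) := by rw [hj]; infer_instance
  have : IsClosedImmersion j := IsClosedImmersion.of_comp j ιZ
  have : Surjective j := ⟨fun z => by
    have hz : ιZ z ∈ ((K ^ 2).support : Set _) :=
      Scheme.IdealSheafData.range_subschemeι (K ^ 2) ▸ ⟨z, rfl⟩
    rw [Scheme.IdealSheafData.support_pow _ 2 two_ne_zero] at hz
    have hz' : ιZ z ∈ Set.range σ' := by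
      rw [σ'.support_ker] at hz
      exact σ'.isClosedEmbedding.isClosed_range.closure_subset hz
    obtain ⟨y, hy⟩ := hz'
    exact ⟨y, ιZ.isClosedEmbedding.injective (by rw [← hy, ← hj]; rfl)⟩⟩
  have : IsAffine (K ^ 2).subscheme := GrothLib.Thickening.isAffine_of_thickening j
  let Z := (K ^ 2).subscheme
  obtain ⟨φ₀, hφ₀⟩ := Spec.map_surjective (j ≫ Z.isoSpec.hom)
  obtain ⟨γ, hγ⟩ := Spec.map_surjective (Z.isoSpec.inv ≫ ιZ ≫ W.ι ≫ q)
  have hγφ : γ ≫ φ₀ = CommRingCat.ofHom (Ideal.Quotient.mk I) := Spec.map_injective (by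
    rw [Spec.map_comp, hφ₀, hγ, Category.assoc, Iso.hom_inv_id_assoc, reassoc_of% hj,
      Scheme.Hom.liftCoborder_ι_assoc, hσ])
  have hφs : Function.Surjective φ₀.hom := fun x => by
    obtain ⟨a, rfl⟩ := Ideal.Quotient.mk_surjective x
    exact ⟨γ.hom a, congr($(hγφ).hom a)⟩
  let N₀ := RingHom.ker φ₀.hom
  letI : Algebra A (Γ(Z, ⊤) ⧸ N₀ * N₀) := ((Ideal.Quotient.mk (N₀ * N₀)).comp γ.hom).toAlgebra
  let φ : (Γ(Z, ⊤) ⧸ N₀ * N₀) →ₐ[A] A ⧸ I :=
    { toRingHom := Ideal.Quotient.lift (N₀ * N₀) φ₀.hom fun x hx =>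
        RingHom.mem_ker.mp (Ideal.mul_le_left hx)
      commutes' := fun a => congr($(hγφ).hom a) }
  let mkC : Γ(Z, ⊤) ⟶ CommRingCat.of (Γ(Z, ⊤) ⧸ N₀ * N₀) := CommRingCat.ofHom (Ideal.Quotient.mk _)
  have hmkφ : mkC ≫ CommRingCat.ofHom φ.toRingHom = φ₀ := rfl
  refine ⟨_, _, _, φ, Spec.map mkC ≫ Z.isoSpec.inv ≫ ιZ ≫ W.ι, ?_, ?_, ?_, ?_, ?_, ?_⟩
  · exact fun x => by obtain ⟨y, rfl⟩ := hφs x; exact ⟨Ideal.Quotient.mk _ y, rfl⟩
  · intro x y hx hy
    obtain ⟨x, rfl⟩ := Ideal.Quotient.mk_surjective x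
    obtain ⟨y, rfl⟩ := Ideal.Quotient.mk_surjective y
    rw [← map_mul, Ideal.Quotient.eq_zero_iff_mem]
    exact Ideal.mul_mem_mul hx hy
  · rw [← Spec.map_comp_assoc, hmkφ, hφ₀, Category.assoc, Iso.hom_inv_id_assoc, reassoc_of% hj]
    exact σ.liftCoborder_ι
  · simp only [Category.assoc]
    rw [← hγ, ← Spec.map_comp]
    rfl
  · refine ⟨fun x => ?_⟩
    have hx : RingHom.ker φ.toRingHom ≤ x.asIdeal := fun y hy => x.isPrime.mem_of_pow_mem 2 (by
      obtain ⟨y, rfl⟩ := Ideal.Quotient.mk_surjective y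
      rw [← map_pow, Ideal.Quotient.eq_zero_iff_mem.mpr]
      · exact zero_mem _
      · rw [pow_two]; exact Ideal.mul_mem_mul hy hy)
    have : x ∈ Set.range (PrimeSpectrum.comap φ.toRingHom) := by
      rw [range_comap_of_surjective _ _ (fun x => by
        obtain ⟨y, rfl⟩ := hφs x; exact ⟨Ideal.Quotient.mk _ y, rfl⟩)]
      exact hx
    exact this
  intro T T'' π hπ J hJ hkJ β hβ m hm
  obtain ⟨α₀, hα₁, hα₂, hα₃⟩ := exists_lift_thickening Z.isoSpec ιZ W.ι σ' φ₀ hφs
    (by rw [hφ₀, Category.assoc, Iso.hom_inv_id_assoc, hj])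
    (by rw [Scheme.IdealSheafData.ker_subschemeι, pow_two]) π hπ J hJ hkJ (mkC ≫ β)
    (fun n hn => hβ _ hn) m (by rw [hm, Spec.map_comp_assoc])
  refine ⟨CommRingCat.ofHom (Ideal.Quotient.lift (N₀ * N₀) α₀.hom hα₃), ?_, ?_⟩
  · ext x
    exact congr($(hα₁).hom x)
  · rw [← Spec.map_comp_assoc]
    exact hα₂

/-- Formal smoothness is local on the source and on the target. -/
theorem isFormallySmoothHom_of_local (f : X ⟶ Y)
    (h : ∀ x : X, ∃ (U : X.Opens) (V : Y.Opens) (e : U ≤ f ⁻¹ᵁ V), x ∈ U ∧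
      MoreMor.IsFormallySmoothHom (f.resLE V U e)) : MoreMor.IsFormallySmoothHom f := by
  choose U V e hxU hUV using h
  intro A _ I hI a b w
  let t := Spec.map (CommRingCat.ofHom (Ideal.Quotient.mk I))
  have : Surjective t := GrothLib.FormalLift.surjective_specMap_quotient hI
  let σ := pullback.lift a t w.symm
  obtain ⟨C, _, _, φ, ι, hφ, hN, hισ, hιq, hsurj, Hι⟩ :=
    exists_algebra I (pullback.snd f b) σ (pullback.lift_snd _ _ _)
  -- the opens `D(g)` on which lifting is possible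
  have hcov : ∀ P : PrimeSpectrum A, ∃ g : A, g ∉ P.asIdeal ∧ Lifts φ g := by
    intro P
    obtain ⟨y, hy⟩ := t.surjective P
    let O : (Spec (CommRingCat.of (A ⧸ I))).Opens := a ⁻¹ᵁ U (a y)
    obtain ⟨O', hO', hOO⟩ := (IsClosedImmersion.spec_of_surjective
      (CommRingCat.ofHom (Ideal.Quotient.mk I)) Ideal.Quotient.mk_surjective
      |>.base_closed.isEmbedding.isInducing.isOpen_iff).mp O.2
    have hOO' : t ⁻¹' O' = (O : Set _) := hOO
    have hPO : P ∈ O' ∩ (b ⁻¹ᵁ V (a y) : Set _) := by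
      refine ⟨?_, ?_⟩
      · have : y ∈ (O : Set _) := hxU (a y)
        rw [← hOO'] at this
        exact hy ▸ this
      · change b P ∈ V (a y)
        rw [← hy, show b (t y) = f (a y) from congr($(w) y)]
        exact e (a y) (hxU (a y))
    obtain ⟨_, ⟨g, rfl⟩, hPg, hgO⟩ := PrimeSpectrum.isTopologicalBasis_basic_opens
      |>.exists_subset_of_mem_open hPO (hO'.inter (b ⁻¹ᵁ V (a y)).2)
    refine ⟨g, hPg, fun T T'' _ _ _ _ hu π hπ J hJ hkJ β hβ => ?_⟩
    let πc : CommRingCat.of T ⟶ CommRingCat.of T'' := CommRingCat.ofHom π.toRingHom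
    let βc : CommRingCat.of C ⟶ CommRingCat.of T'' := CommRingCat.ofHom β.toRingHom
    let sT := Spec.map (CommRingCat.ofHom (algebraMap A T))
    have hsq : RingHom.ker πc.hom ^ 2 = ⊥ := le_bot_iff.mp
      ((Ideal.pow_right_mono hkJ 2).trans (pow_two J ▸ hJ.le))
    have hcomm : Spec.map βc ≫ ι ≫ pullback.snd f b = Spec.map πc ≫ sT := by
      rw [hιq, ← Spec.map_comp, ← Spec.map_comp]
      congr 1
      ext x
      exact (β.commutes x).trans (π.commutes x).symm
    have hD : ∀ z, sT z ∈ O' ∩ (b ⁻¹ᵁ V (a y) : Set _) := fun z => hgO (by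
      change g ∉ (z.asIdeal.comap (algebraMap A T))
      exact fun hz => z.isPrime.ne_top (Ideal.eq_top_of_isUnit_mem _ hz hu))
    have hrV : Set.range (sT ≫ b) ⊆ Set.range (V (a y)).ι := by
      rintro _ ⟨z, rfl⟩
      rw [Scheme.Opens.range_ι]
      exact (hD z).2
    let l'' := Spec.map βc ≫ ι ≫ pullback.fst f b
    have hrU : Set.range l'' ⊆ Set.range (U (a y)).ι := by
      rintro _ ⟨z, rfl⟩
      rw [Scheme.Opens.range_ι]
      obtain ⟨v, hv⟩ := hsurj.surj (Spec.map βc z)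
      have h1 : l'' z = a v := by
        change pullback.fst f b (ι (Spec.map βc z)) = a v
        rw [← hv]
        change (Spec.map (CommRingCat.ofHom φ.toRingHom) ≫ ι ≫ pullback.fst f b) v = a v
        rw [reassoc_of% hισ, pullback.lift_fst]
      have h2 : t v = sT (Spec.map πc z) := by
        rw [show sT (Spec.map πc z) = (Spec.map πc ≫ sT) z from rfl, ← hcomm]
        change _ = pullback.snd f b (ι (Spec.map βc z))
        rw [← hv]
        change _ = (Spec.map (CommRingCat.ofHom φ.toRingHom) ≫ ι ≫ pullback.snd f b) v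
        rw [reassoc_of% hισ, pullback.lift_snd]
      rw [h1]
      change v ∈ (O : Set _)
      rw [← hOO']
      change t v ∈ O'
      rw [h2]
      exact (hD _).1
    obtain ⟨l, hl, hlf⟩ := exists_lift_spec _ (hUV (a y)) πc hπ hsq
      (IsOpenImmersion.lift (U (a y)).ι l'' hrU) (IsOpenImmersion.lift (V (a y)).ι (sT ≫ b) hrV) (by
        rw [← cancel_mono (V (a y)).ι]
        simp only [Category.assoc, IsOpenImmersion.lift_fac, Scheme.Hom.resLE_comp_ι]
        rw [IsOpenImmersion.lift_fac_assoc]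
        simp only [l'', Category.assoc]
        rw [pullback.condition, ← reassoc_of% hcomm])
    let L := l ≫ (U (a y)).ι
    have hL : L ≫ f = sT ≫ b := by
      rw [Category.assoc, ← Scheme.Hom.resLE_comp_ι f (e (a y)), reassoc_of% hlf,
        IsOpenImmersion.lift_fac]
    let m := pullback.lift L sT hL
    have hm : Spec.map πc ≫ m = Spec.map βc ≫ ι := by
      apply pullback.hom_ext
      · simp only [m, Category.assoc, pullback.lift_fst, L]
        rw [reassoc_of% hl, IsOpenImmersion.lift_fac]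
      · simp only [m, Category.assoc, pullback.lift_snd]
        exact hcomm.symm
    obtain ⟨α, hα, hαm⟩ := Hι _ _ πc hπ J hJ hkJ βc hβ m hm
    refine ⟨⟨α.hom, fun x => ?_⟩, AlgHom.ext fun x => congr($(hα).hom x)⟩
    have : Spec.map α ≫ Spec.map (CommRingCat.ofHom (algebraMap A C)) = sT := by
      rw [← hιq, reassoc_of% hαm, pullback.lift_snd]
    rw [← Spec.map_comp] at this
    exact congr($(Spec.map_injective this).hom x)
  choose g hgP hgL using hcov
  have hspan : Ideal.span (Set.range g) = ⊤ := by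
    by_contra hne
    obtain ⟨m, hm, hle⟩ := Ideal.exists_le_maximal _ hne
    exact hgP ⟨m, hm.isPrime⟩ (hle (Ideal.subset_span ⟨_, rfl⟩))
  obtain ⟨G, hG, hG'⟩ := Submodule.mem_span_finite_of_mem_span
    ((hspan ▸ Submodule.mem_top) : (1 : A) ∈ Ideal.span (Set.range g))
  obtain ⟨s, hs⟩ := exists_retraction (by rw [← pow_two, hI]) φ hN
    (ι := ↥G) (fun x => (x : A)) (fun x => by obtain ⟨P, hP⟩ := hG x.2; exact hP ▸ hgL P)
    ((Ideal.eq_top_iff_one _).mpr (by simpa using hG'))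
  refine ⟨Spec.map (CommRingCat.ofHom s.toRingHom) ≫ ι ≫ pullback.fst f b, ?_, ?_⟩
  · rw [← Spec.map_comp_assoc]
    rw [show CommRingCat.ofHom s.toRingHom ≫ CommRingCat.ofHom (Ideal.Quotient.mk I) =
      CommRingCat.ofHom φ.toRingHom from CommRingCat.hom_ext (RingHom.ext fun x => congr($hs x))]
    rw [reassoc_of% hισ, pullback.lift_fst]
  · simp only [Category.assoc]
    rw [pullback.condition, reassoc_of% hιq, ← Spec.map_comp_assoc]
    rw [show CommRingCat.ofHom (algebraMap A C) ≫ CommRingCat.ofHom s.toRingHom = 𝟙 _ from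
      CommRingCat.hom_ext (RingHom.ext fun x => s.commutes x), Spec.map_id, Category.id_comp]

end GrothLib.SmoothLocal6
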