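import Groth.Agent.Lib.ProjDescent.Main

/-!
Projectivity is local on the spectrum.
-/

universe u v

open TensorProduct

namespace GrothLib.SmoothLocal6

/-- A module over a finite product of rings is projective if its components are. -/
theorem projective_of_pi {ι : Type u} [Fintype ι] (S : ι → Type u) [∀ i, CommRing (S i)] (M : Type u)
    [AddCommGroup M] [Module (∀ i, S i) M]
    (h : ∀ i, letI : Algebra (∀ j, S j) (S i) := (Pi.evalRingHom S i).toAlgebra
      Module.Projective (S i) (S i ⊗[∀ j, S j] M)) : Module.Projective (∀ i, S i) M := by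
  classical
  letI alg : ∀ i, Algebra (∀ j, S j) (S i) := fun i => (Pi.evalRingHom S i).toAlgebra
  have hsmul : ∀ i (r : ∀ j, S j) (x : S i), r • x = r i * x := fun i r x => rfl
  have hS : ∀ i, Module.Projective (∀ j, S j) (S i) := fun i => by
    let s : S i →ₗ[∀ j, S j] (∀ j, S j) :=
      { toFun := fun x => Pi.single i x
        map_add' := fun x y => Pi.single_add i x y
        map_smul' := fun r x => by
          funext j
          simp only [hsmul, RingHom.id_apply, Pi.smul_apply, smul_eq_mul, Pi.mul_apply]
          rcases eq_or_ne j i with rfl | hj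
          · simp
          · simp [Pi.single_eq_of_ne hj] }
    exact Module.Projective.of_split s (Algebra.linearMap _ _) (LinearMap.ext fun x => by
      change (Pi.single i x : ∀ j, S j) i = x
      simp)
  have hP : ∀ i, Module.Projective (∀ j, S j) (S i ⊗[∀ j, S j] M) := fun i => by
    obtain ⟨s, hs⟩ := (Module.projective_def' (R := S i) (P := S i ⊗[∀ j, S j] M)).mp (h i)
    have := hS i
    have : Module.Projective (∀ j, S j) ((S i ⊗[∀ j, S j] M) →₀ S i) :=
      Module.Projective.of_equiv (finsuppLequivDFinsupp (∀ j, S j)).symm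
    exact Module.Projective.of_split (s.restrictScalars (∀ j, S j))
      ((Finsupp.linearCombination (S i) id).restrictScalars (∀ j, S j))
      (LinearMap.ext fun x => LinearMap.congr_fun hs x)
  have : Module.Projective (∀ j, S j) (∀ i, S i ⊗[∀ j, S j] M) :=
    Module.Projective.of_equiv DFinsupp.linearEquivFunOnFintype
  let e₁ : (∀ i, S i ⊗[∀ j, S j] M) ≃ₗ[∀ j, S j] ((∀ i, S i) ⊗[∀ j, S j] M) :=
    (TensorProduct.piLeft (∀ j, S j) M S).symm
  exact Module.Projective.of_equiv (e₁.trans (TensorProduct.lid _ M))

/-- The product of the localizations at a generating set is faithfully flat. -/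
theorem faithfullyFlat_pi_away {R : Type u} [CommRing R] {ι : Type u} [Fintype ι] (g : ι → R)
    (hg : Ideal.span (Set.range g) = ⊤) :
    Module.FaithfullyFlat R (∀ i, Localization.Away (g i)) := by
  classical
  have : Module.Flat R (∀ i, Localization.Away (g i)) :=
    Module.Flat.of_linearEquiv
      (DFinsupp.linearEquivFunOnFintype (R := R) (M := fun i => Localization.Away (g i))).symm
  refine Module.FaithfullyFlat.of_comap_surjective fun P => ?_
  obtain ⟨i, hi⟩ : ∃ i, g i ∉ P.asIdeal := by
    by_contra h
    push Not at h
    exact P.isPrime.ne_top (top_le_iff.mp (hg ▸ Ideal.span_le.mpr (by rintro _ ⟨i, rfl⟩; exact h i)))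
  obtain ⟨Q, rfl⟩ : ∃ Q, PrimeSpectrum.comap (algebraMap R (Localization.Away (g i))) Q = P := by
    have := PrimeSpectrum.localization_away_comap_range (Localization.Away (g i)) (g i)
    exact Set.mem_range.mp (this.symm ▸ (PrimeSpectrum.mem_basicOpen _ _).mpr hi : P ∈ Set.range _)
  exact ⟨PrimeSpectrum.comap (Pi.evalRingHom (fun i => Localization.Away (g i)) i) Q,
    PrimeSpectrum.ext rfl⟩

/-- Projectivity is local on the spectrum. -/
theorem projective_of_away {R : Type u} [CommRing R] (M : Type u) [AddCommGroup M] [Module R M]
    {ι : Type u} [Fintype ι] (g : ι → R) (hg : Ideal.span (Set.range g) = ⊤)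
    (h : ∀ i, Module.Projective (Localization.Away (g i)) (Localization.Away (g i) ⊗[R] M)) :
    Module.Projective R M := by
  let S := fun i => Localization.Away (g i)
  have := faithfullyFlat_pi_away g hg
  have : Module.Projective (∀ i, S i) ((∀ i, S i) ⊗[R] M) := by
    refine projective_of_pi S _ fun i => ?_
    letI : Algebra (∀ j, S j) (S i) := (Pi.evalRingHom S i).toAlgebra
    have : IsScalarTower R (∀ j, S j) (S i) := .of_algebraMap_eq fun _ => rfl
    have := h i
    exact Module.Projective.of_equiv
      (TensorProduct.AlgebraTensorModule.cancelBaseChange R (∀ j, S j) (S i) (S i) M).symm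
  exact ProjDescent.projective_of_faithfullyFlat (∀ i, S i) M

end GrothLib.SmoothLocal6
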